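import Groth.Agent.S10048
import Groth.Agent.S10043
import Groth.Agent.S0217
import Groth.Agent.H19Grp.GrpdInvAffine
import Groth.Agent.H13AlgSp.KernelPairGrpd
import Groth.Agent.H13AlgSp.DecentFinite
import Groth.Agent.H12AlgSp.OpenSub
import Groth.Agent.H12AlgSp.RelDimApps
import Groth.Agent.H12AlgSp.DecentSeparated
import Groth.Agent.H12AlgSp.NoethValuative
import Groth.Agent.H12AlgSp.Proper
import Groth.Agent.H12AlgSp.QC

/-!
# Finitely many points of codimension at most one lie in an affine open subscheme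
-/

set_option autoImplicit false
set_option linter.style.haveILetI false
set_option backward.isDefEq.respectTransparency false
set_option maxHeartbeats 1000000

universe u

open CategoryTheory CategoryTheory.Limits AlgebraicGeometry Opposite Topology TopologicalSpace
open AlgSp Groth.Agent.H13AlgSp Groth.Agent.H12AlgSp Groth.Agent.H13Grpd

namespace Groth.Agent.H13CodimOne

variable {S : Scheme.{u}}

/-- There is no chain of length two below a point with local ring of dimension at most one. -/
theorem chain_eq {X : Scheme.{u}} {a b c : X} (hc : ringKrullDim ↥(X.presheaf.stalk c) ≤ 1)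
    (h₁ : a ⤳ b) (h₂ : b ⤳ c) : b = c ∨ a = b := by
  by_contra h
  push Not at h
  have hd : Order.coheight c ≤ 1 := by
    rw [ringKrullDim_stalk_eq_coheight] at hc
    exact_mod_cast hc
  have hcb : c < b := lt_of_le_not_ge (show c ≤ b from h₂) fun h' => h.1 (Specializes.antisymm h₂ h').eq
  have hba : b < a := lt_of_le_not_ge (show b ≤ a from h₁) fun h' => h.2 (Specializes.antisymm h₁ h').eq
  have := Order.length_le_coheight (p := ((RelSeries.singleton _ a).cons b hba).cons c (by simpa using hcb))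
    (x := c) (by simp)
  simp at this
  exact absurd (this.trans hd) (by norm_num)

theorem dim_le_one_of_chain {X : Scheme.{u}} {c : X}
    (h : ∀ b a : X, a ⤳ b → b ⤳ c → b = c ∨ a = b) : ringKrullDim ↥(X.presheaf.stalk c) ≤ 1 := by
  rw [ringKrullDim_stalk_eq_coheight]
  refine WithBot.coe_le_coe.2 (Order.coheight_le fun p hp => ?_)
  by_contra hlt
  have h2 : 2 ≤ p.length := by
    have : (1 : ℕ∞) < p.length := not_le.1 hlt
    exact_mod_cast this
  have h01 : p ⟨0, by omega⟩ < p ⟨1, by omega⟩ := p.strictMono (Fin.mk_lt_mk.2 one_pos)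
  have h12 : p ⟨1, by omega⟩ < p ⟨2, by omega⟩ := p.strictMono (Fin.mk_lt_mk.2 one_lt_two)
  have h0 : p ⟨0, by omega⟩ = c := hp
  rcases h (p ⟨1, by omega⟩) (p ⟨2, by omega⟩) (show _ ≤ _ from h12.le) (h0 ▸ (show _ ≤ _ from h01.le)) with e | e
  · exact h01.ne (h0.trans e.symm)
  · exact h12.ne e.symm

theorem finite_irreducibleComponents_of_compact {Y : Scheme.{u}} [IsLocallyNoetherian Y] (U : Y.Opens)
    (hU : IsCompact (U : Set Y)) : (irreducibleComponents (U : Set Y)).Finite := by
  haveI : CompactSpace U.toScheme := isCompact_iff_compactSpace.1 hU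
  haveI : IsLocallyNoetherian U.toScheme := isLocallyNoetherian_of_isOpenImmersion U.ι
  haveI : IsNoetherian U.toScheme := ⟨⟩
  exact TopologicalSpace.NoetherianSpace.finite_irreducibleComponents (α := U.toScheme)

/-- The core case: a quasi-compact separated space. -/
theorem exists_affine_of_quasiCompact [S.IsSeparated] (X : AlgSp.Space S) (hqc : IsQuasiCompactSp X.obj)
    (hqs : IsQuasiSeparatedSp X.obj) (hsep : IsSeparatedSp X.obj) (hN : IsLocNoethSp X.obj)
    (s : Set (Points X.obj)) (hfin : s.Finite)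
    (hs : ∀ x ∈ s, HasAt (fun U u => ringKrullDim ↥(U.presheaf.stalk u) ≤ 1) X.obj x) :
    ∃ (T : Over S) (j : (yon S).obj T ⟶ X.obj), IsAffine T.left ∧
      RepWith @IsOpenImmersion j ∧ s ⊆ Set.range (Points.ofPt j) := by
  obtain ⟨U₀, p₀, hp₀, hp₀s, hU₀⟩ := hN
  have hN : IsLocNoethSp X.obj := ⟨U₀, p₀, hp₀, hp₀s, hU₀⟩
  obtain ⟨Y, g, hg, hgs, -, -⟩ := Groth.Agent.S10048.result S X hqc hqs U₀ p₀ hp₀ hp₀s
  have hg' : RepWith @IsFinite g := isFiniteMor_iff.1 hg
  -- the groupoid
  obtain ⟨R, w, k, sq⟩ := hg'.rep g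
  obtain ⟨t, rfl⟩ := (yon S).map_surjective k
  haveI hsfin : IsFinite (kernelPairGrpd sq).s := hg'.property g _ w sq
  haveI htfin : IsFinite (kernelPairGrpd sq).t := hg'.property g _ t sq.flip
  -- properties of the cover
  haveI : Y.left.IsSeparated := by
    have h := isSeparatedSp_of_mor g (isSeparatedMor_of_repWith
      (repWith_le (fun _ _ i (_ : IsFinite i) => (inferInstance : IsSeparated i)) hg')) hsep
    haveI : IsSeparated Y.hom := ⟨(repWith_diag_yon_iff @IsClosedImmersion Y).1 h⟩
    haveI : IsSeparated (terminal.from S) := Scheme.IsSeparated.isSeparated_terminal_from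
    refine ⟨?_⟩
    rw [terminal.hom_ext (terminal.from Y.left) (Y.hom ≫ terminal.from S)]
    infer_instance
  obtain ⟨P₀, r₀, q₀, sq₀⟩ := hg'.rep p₀
  haveI : IsFinite r₀.left := hg'.property p₀ _ r₀ sq₀
  haveI : IsLocallyNoetherian P₀.left := by
    haveI : IsLocallyNoetherian U₀.left := hU₀
    exact LocallyOfFiniteType.isLocallyNoetherian r₀.left
  obtain ⟨q₀, rfl⟩ := (yon S).map_surjective q₀
  haveI : IsLocallyNoetherian Y.left := by
    haveI : Etale q₀.left := hp₀.property g _ q₀ sq₀.flip
    haveI : Surjective q₀.left := hp₀s.property g _ q₀ sq₀.flip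
    exact isLocallyNoetherian_of_flat_lfp_surjective q₀.left
  -- the finite saturated set
  let O : Set Y.left := Points.ofPt g ⁻¹' s
  have hchart : ∀ x ∈ s, ∀ y : Y.left, Points.ofPt g y = x → ∃ (V P : Over S) (r : P ⟶ V) (q : P ⟶ Y) (v : V.left)
      (z : P.left), IsFinite r.left ∧ Etale q.left ∧ q.left z = y ∧ r.left z = v ∧
        ringKrullDim ↥(V.left.presheaf.stalk v) ≤ 1 := by
    intro x hx y hy
    obtain ⟨V, a, v, ha, hav, hdim⟩ := hs x hx
    obtain ⟨P, r, q, sqP⟩ := hg'.rep a
    obtain ⟨q, rfl⟩ := (yon S).map_surjective q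
    obtain ⟨z, hz₁, hz₂⟩ := exists_point_of_isPullback sqP (Points.ofScheme Y y) (Points.ofScheme V v)
      (by rw [← Points.ofPt_eq_map_ofScheme, ← Points.ofPt_eq_map_ofScheme, hy, hav])
    obtain ⟨z, rfl⟩ := (Points.schemeEquiv P).surjective z
    refine ⟨V, P, r, q, v, z, hg'.property a _ r sqP, ha.property g _ q sqP.flip, ?_, ?_, hdim⟩
    · apply (Points.schemeEquiv Y).injective
      exact (Points.map_yon_map_apply q z).symm.trans hz₁
    · apply (Points.schemeEquiv V).injective
      exact (Points.map_yon_map_apply r z).symm.trans hz₂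
  have hO : O.Finite := by
    refine (hfin.biUnion (t := fun x => Points.ofPt g ⁻¹' {x}) fun x hx => ?_).subset fun y hy =>
      Set.mem_biUnion hy rfl
    obtain ⟨V, a, v, ha, hav, -⟩ := hs x hx
    obtain ⟨P, r, q, sqP⟩ := hg'.rep a
    obtain ⟨q, rfl⟩ := (yon S).map_surjective q
    haveI : IsFinite r.left := hg'.property a _ r sqP
    refine ((r.left.finite_preimage_singleton v).image q.left).subset fun y hy => ?_
    obtain ⟨z, hz₁, hz₂⟩ := exists_point_of_isPullback sqP (Points.ofScheme Y y) (Points.ofScheme V v)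
      (by rw [← Points.ofPt_eq_map_ofScheme, ← Points.ofPt_eq_map_ofScheme, hav]; exact hy)
    obtain ⟨z, rfl⟩ := (Points.schemeEquiv P).surjective z
    refine ⟨z, ?_, ?_⟩
    · apply (Points.schemeEquiv V).injective
      exact (Points.map_yon_map_apply r z).symm.trans hz₂
    · apply (Points.schemeEquiv Y).injective
      exact (Points.map_yon_map_apply q z).symm.trans hz₁
  have hst : ∀ c : R.left, Points.ofPt g (t.left c) = Points.ofPt g (w.left c) := fun c => by
    rw [← ofPt_map, ← ofPt_map, sq.w]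
  have hchain : ∀ y ∈ O, ∀ b a : Y.left, a ⤳ b → b ⤳ y → b = y ∨ a = b := by
    intro y hy b a hab hby
    obtain ⟨V, P, r, q, v, z, hr, hq, rfl, rfl, hdim⟩ := hchart _ hy y rfl
    haveI := hr
    haveI := hq
    obtain ⟨z', hz', rfl⟩ := Flat.generalizingMap (f := q.left) hby
    obtain ⟨z'', hz'', rfl⟩ := Flat.generalizingMap (f := q.left) hab
    rcases chain_eq hdim (hz''.map r.left.continuous) (hz'.map r.left.continuous) with e | e
    · exact Or.inl (congrArg q.left (Groth.Agent.S7464.eq_of_specializes_fibre r.left hz' e))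
    · exact Or.inr (congrArg q.left (Groth.Agent.S7464.eq_of_specializes_fibre r.left hz'' e))
  -- an affine open containing the saturated set
  obtain ⟨V, hV, hOV⟩ := Groth.Agent.S0217.result Y.left (fun U hU => finite_irreducibleComponents_of_compact U hU)
    hO.toFinset (fun y hy => ⟨inferInstance, dim_le_one_of_chain (hchain y (hO.mem_toFinset.1 hy))⟩)
  haveI : LocallyOfFinitePresentation (kernelPairGrpd sq).s := by
    haveI : IsFinite w.left := hsfin
    show LocallyOfFinitePresentation w.left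
    infer_instance
  obtain ⟨W, hW, -, hOW, hWinv⟩ := Groth.Agent.H19Grp.InvAffine.exists_invariant_affine_of_dim_le_one
    (kernelPairGrpd sq) O hO
    (fun (y : Y.left) hy z hz => by
      obtain ⟨c, hc, rfl⟩ := hz
      show Points.ofPt g (t.left c) ∈ s
      rw [hst, show w.left c = y from hc]
      exact hy)
    (fun (y : Y.left) hy b a hab hby => hchain y hy b a hab hby) V hV
    (fun (y : Y.left) hy => hOV y (hO.mem_toFinset.2 hy))
  -- its image
  let W' : Y.left.Opens := W
  let I : Set (Points X.obj) := Points.ofPt g '' (W' : Set Y.left)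
  have hsat : ∀ y, Points.ofPt g y ∈ I → y ∈ W' := by
    rintro y ⟨y', hy', e⟩
    obtain ⟨c, hc₁, hc₂⟩ := exists_point_of_isPullback sq (Points.ofScheme Y y) (Points.ofScheme Y y')
      (by rw [← Points.ofPt_eq_map_ofScheme, ← Points.ofPt_eq_map_ofScheme, e])
    obtain ⟨c, rfl⟩ := (Points.schemeEquiv R).surjective c
    have h₁ : t.left c = y := (Points.schemeEquiv Y).injective ((Points.map_yon_map_apply t c).symm.trans hc₁)
    have h₂ : w.left c = y' := (Points.schemeEquiv Y).injective ((Points.map_yon_map_apply w c).symm.trans hc₂)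
    have h : c ∈ (kernelPairGrpd sq).s ⁻¹ᵁ W := by
      show w.left c ∈ W'
      rwa [h₂]
    rw [hWinv] at h
    rw [← h₁]
    exact h
  have hsurj : Function.Surjective (Points.ofPt g) := fun x => by
    obtain ⟨z, rfl⟩ := hgs x
    obtain ⟨y, rfl⟩ := (Points.schemeEquiv Y).surjective z
    exact ⟨y, Points.ofPt_eq_map_ofScheme g y⟩
  have hI : IsOpen I := by
    have e : I = (Points.ofPt g '' (W' : Set Y.left)ᶜ)ᶜ := by
      ext x
      refine ⟨?_, fun hx => ?_⟩
      · rintro hx ⟨y, hy, rfl⟩
        exact hy (hsat y hx)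
      · obtain ⟨y, rfl⟩ := hsurj x
        exact ⟨y, by_contra fun h => hx ⟨y, h, rfl⟩, rfl⟩
    rw [e]
    refine IsClosed.isOpen_compl (self := ?_)
    rw [show Points.ofPt g = Points.map g ∘ Points.schemeHomeo Y from
      funext fun y => Points.ofPt_eq_map_ofScheme g y, Set.image_comp]
    exact isClosedMap_map_of_isFiniteMor hg _ ((Points.schemeHomeo Y).isClosed_image.2 W'.2.isClosed_compl)
  let X' : AlgSp.Space S := ⟨openSub I, isAlgSpace_of_representable _ (repWith_openSubι hI).1 X.property⟩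
  -- the restricted cover
  obtain ⟨W₁, i, g₁, sq₁⟩ := (repWith_openSubι hI).rep g
  haveI : IsOpenImmersion i.left := (repWith_openSubι hI).property g _ i sq₁
  have hrange : Set.range i.left = (W' : Set Y.left) := by
    rw [← preimage_ofPt_range sq₁, range_openSubι X.property]
    exact Set.ext fun y => ⟨hsat y, fun h => ⟨y, h, rfl⟩⟩
  have hW₁ : IsAffine W₁.left := by
    haveI : IsAffine W'.toScheme := hW
    exact IsAffine.of_isIso (IsOpenImmersion.isoOfRangeEq i.left W'.ι (by simpa using hrange)).hom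
  have hfin₁ : IsFiniteMor g₁ := isFiniteMor_iff.2 (repWith_of_isPullback sq₁.flip hg')
  have hsurj₁ : IsSurjectiveMor g₁ := fun y => by
    obtain ⟨z, hz⟩ := hgs (Points.map (openSubι I) y)
    obtain ⟨p, -, hp⟩ := exists_point_of_isPullback sq₁.flip z y hz
    exact ⟨p, hp⟩
  obtain ⟨T, hT, ⟨e⟩⟩ := Groth.Agent.S10043.result S (X := ⟨_, IsAlgSpace.yon_obj W₁⟩) (Y := X')
    (ObjectProperty.homMk g₁) hfin₁ hsurj₁ ⟨W₁, hW₁, ⟨Iso.refl _⟩⟩
  refine ⟨T, e.hom ≫ openSubι I, hT, repWith_comp (repWith_of_isIso e.hom) (repWith_openSubι hI), ?_⟩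
  intro x hx
  obtain ⟨y, rfl⟩ := hsurj x
  obtain ⟨z, hz⟩ := (range_openSubι X.property I).ge (show Points.ofPt g y ∈ I from ⟨y, hOW hx, rfl⟩)
  rw [← range_map_yon]
  exact ⟨Points.map e.inv z, by rw [← Points.map_comp, e.inv_hom_id_assoc, hz]⟩

end Groth.Agent.H13CodimOne
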