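import Groth.Agent.H13CodimOne.Basic
import Groth.Agent.H12AlgSp.AbsInt.Base

/-!
# Reduction to quasi-compact spaces
-/

set_option autoImplicit false
set_option linter.style.haveILetI false
set_option backward.isDefEq.respectTransparency false
set_option maxHeartbeats 1000000

universe u

open CategoryTheory CategoryTheory.Limits AlgebraicGeometry Opposite Topology TopologicalSpace
open AlgSp Groth.Agent.H13AlgSp Groth.Agent.H12AlgSp

namespace Groth.Agent.H13CodimOne

variable {S : Scheme.{u}}

/-- A closed immersion is quasi-compact. -/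
theorem isQuasiSeparatedSp_of_isSeparatedSp {X : Sp S} (h : IsSeparatedSp X) : IsQuasiSeparatedSp X :=
  repWith_le (fun _ _ i (_ : IsClosedImmersion i) => (inferInstance : QuasiCompact i)) h

/-- Finitely many points of codimension at most one lie in an affine open subscheme. -/
theorem exists_affine_nhd [S.IsSeparated] (X : AlgSp.Space S) (hsep : IsSeparatedSp X.obj) (hN : IsLocNoethSp X.obj)
    (s : Set (Points X.obj)) (hfin : s.Finite)
    (hs : ∀ x ∈ s, HasAt (fun U u => ringKrullDim ↥(U.presheaf.stalk u) ≤ 1) X.obj x) :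
    ∃ (T : Over S) (j : (yon S).obj T ⟶ X.obj), IsAffine T.left ∧
      RepWith @IsOpenImmersion j ∧ s ⊆ Set.range (Points.ofPt j) := by
  choose V hVo hVc hxV _ using fun x : Points X.obj => exists_compact_open_nhd X.property x isOpen_univ (Set.mem_univ x)
  let W : Set (Points X.obj) := ⋃ x ∈ s, V x
  have hWo : IsOpen W := isOpen_biUnion fun x _ => hVo x
  have hWc : IsCompact W := hfin.isCompact_biUnion fun x _ => hVc x
  have hj := repWith_openSubι hWo
  let X' : AlgSp.Space S := ⟨openSub W, isAlgSpace_of_representable _ hj.1 X.property⟩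
  have hsep' : IsSeparatedSp X'.obj := isSeparatedSp_of_mor _ (isSeparatedMor_of_mono (openSubι W)) hsep
  have hN' : IsLocNoethSp X'.obj := by
    obtain ⟨U, p, hp, hps, hU⟩ := hN
    obtain ⟨U', i, p', sq⟩ := hj.rep p
    haveI : IsOpenImmersion i.left := hj.property p _ i sq
    haveI : IsLocallyNoetherian U.left := hU
    exact ⟨U', p', repWith_of_isPullback sq.flip hp, repWith_of_isPullback sq.flip hps,
      isLocallyNoetherian_of_isOpenImmersion i.left⟩
  have hqc' : IsQuasiCompactSp X'.obj := by
    rw [isQuasiCompactSp_iff X'.property]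
    have he : IsEmbedding (Points.map (openSubι W)) := (isEmbedding_of_immersion X.property _
      (repWith_le (fun _ _ i (_ : IsOpenImmersion i) => (inferInstance : IsImmersion i)) hj)).1
    refine ⟨he.isCompact_iff.2 ?_⟩
    rw [Set.image_univ, range_openSubι X.property]
    exact hWc
  obtain ⟨T, j, hT, hjT, hsub⟩ := exists_affine_of_quasiCompact X' hqc'
    (isQuasiSeparatedSp_of_isSeparatedSp hsep') hsep' hN' (Points.map (openSubι W) ⁻¹' s)
    (hfin.preimage (injective_map_of_mono _).injOn) (fun x' hx' => by
      obtain ⟨U, a, u, ha, hau, hdim⟩ := hs _ hx'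
      obtain ⟨U', i, a', sq⟩ := hj.rep a
      haveI : IsOpenImmersion i.left := hj.property a _ i sq
      obtain ⟨u', rfl⟩ : u ∈ Set.range i.left := by
        rw [← preimage_ofPt_range sq]
        exact ⟨x', hau.symm⟩
      refine ⟨U', a', u', repWith_of_isPullback sq.flip ha, injective_map_of_mono (openSubι W) ?_, ?_⟩
      · rw [Points.map_ofPt, sq.w, ofPt_map, hau]
      · exact (ringKrullDim_eq_of_ringEquiv (asIso (i.left.stalkMap u')).commRingCatIsoToRingEquiv).symm.le.trans hdim)
  refine ⟨T, j ≫ openSubι W, hT, repWith_comp hjT hj, fun x hx => ?_⟩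
  obtain ⟨x', rfl⟩ := (range_openSubι X.property W).ge (Set.mem_biUnion hx (hxV x))
  obtain ⟨t, rfl⟩ := hsub (show x' ∈ Points.map (openSubι W) ⁻¹' s from hx)
  exact ⟨t, (Points.map_ofPt _ _ _).symm⟩

end Groth.Agent.H13CodimOne
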